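import Cfsg.Agent.Spor.He2058.D0

set_option autoImplicit false
set_option maxRecDepth 100000000
set_option Elab.async false

namespace Cfsg.Agent.Spor.He2058

theorem ok0 : Net.okb 12 n0 = true := by decide +kernel

theorem ok1 : Net.okb 12 n1 = true := by decide +kernel

theorem ok2 : Net.okb 12 n2 = true := by decide +kernel

theorem ok3 : Net.okb 12 n3 = true := by decide +kernel

theorem ok4 : Net.okb 12 n4 = true := by decide +kernel

theorem ok5 : Net.okb 12 n5 = true := by decide +kernel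

theorem ok6 : Net.okb 12 n6 = true := by decide +kernel

theorem ok7 : Net.okb 12 n7 = true := by decide +kernel

theorem ok8 : Net.okb 12 n8 = true := by decide +kernel

theorem ok9 : Net.okb 12 n9 = true := by decide +kernel

theorem rel0 : T.rel 12 [1, 1] 0 12 = true := by decide +kernel

theorem rel1 : T.rel 12 [2, 2] 0 12 = true := by decide +kernel

theorem rel2 : T.rel 12 [3, 3] 0 12 = true := by decide +kernel

theorem rel3 : T.rel 12 [4, 4] 0 12 = true := by decide +kernel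

theorem rel4 : T.rel 12 [5, 5] 0 12 = true := by decide +kernel

theorem rel5 : T.rel 12 [6, 6] 0 12 = true := by decide +kernel

theorem rel6 : T.rel 12 [7, 7] 0 12 = true := by decide +kernel

theorem rel7 : T.rel 12 [8, 1, 2, 1, 2] 0 12 = true := by decide +kernel

theorem rel8 : T.rel 12 [10, 2, 3, 4, 5] 0 12 = true := by decide +kernel

theorem rel9 : T.rel 12 [12, 11, 11, 11, 11, 11, 11, 11] 0 12 = true := by decide +kernel

theorem rel10 : T.rel 12 [2, 1, 2, 1, 2, 1, 2, 1] 0 12 = true := by decide +kernel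

theorem rel11 : T.rel 12 [3, 1, 3, 1] 0 12 = true := by decide +kernel

theorem rel12 : T.rel 12 [4, 1, 4, 1] 0 12 = true := by decide +kernel

theorem rel13 : T.rel 12 [5, 1, 5, 1] 0 12 = true := by decide +kernel

theorem rel14 : T.rel 12 [6, 1, 6, 1] 0 12 = true := by decide +kernel

theorem rel15 : T.rel 12 [7, 1, 7, 1] 0 12 = true := by decide +kernel

theorem rel16 : T.rel 12 [3, 2, 3, 2, 3, 2] 0 12 = true := by decide +kernel

theorem rel17 : T.rel 12 [4, 2, 4, 2] 0 12 = true := by decide +kernel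

theorem rel18 : T.rel 12 [5, 2, 5, 2] 0 12 = true := by decide +kernel

theorem rel19 : T.rel 12 [6, 2, 6, 2] 0 12 = true := by decide +kernel

theorem rel20 : T.rel 12 [7, 2, 7, 2] 0 12 = true := by decide +kernel

theorem rel21 : T.rel 12 [4, 3, 4, 3, 4, 3, 4, 3, 4, 3, 4, 3, 4, 3, 4, 3, 4, 3, 4, 3] 0 12 = true := by decide +kernel

theorem rel22 : T.rel 12 [5, 3, 5, 3] 0 12 = true := by decide +kernel

theorem rel23 : T.rel 12 [6, 3, 6, 3] 0 12 = true := by decide +kernel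

theorem rel24 : T.rel 12 [7, 3, 7, 3] 0 12 = true := by decide +kernel

theorem rel25 : T.rel 12 [5, 4, 5, 4, 5, 4] 0 12 = true := by decide +kernel

theorem rel26 : T.rel 12 [6, 4, 6, 4, 6, 4] 0 12 = true := by decide +kernel

theorem rel27 : T.rel 12 [7, 4, 7, 4, 7, 4] 0 12 = true := by decide +kernel

theorem rel28 : T.rel 12 [6, 5, 6, 5] 0 12 = true := by decide +kernel

theorem rel29 : T.rel 12 [7, 5, 7, 5] 0 12 = true := by decide +kernel

theorem rel30 : T.rel 12 [7, 6, 7, 6, 7, 6, 7, 6] 0 12 = true := by decide +kernel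

theorem rel31 : T.rel 12 [6, 7, 6, 7, 5] 0 12 = true := by decide +kernel

theorem rel32 : T.rel 12 [1, 2, 3, 1, 2, 3, 1, 2, 3, 5] 0 12 = true := by decide +kernel

theorem rel33 : T.rel 12 [3, 4, 3, 4, 3, 4, 3, 4, 3, 4, 1] 0 12 = true := by decide +kernel

theorem rel34 : T.rel 12 [7, 6, 4, 3, 7, 6, 4, 3, 7, 6, 4, 3, 7, 6, 4, 3] 0 12 = true := by decide +kernel

theorem hcov : T.treeCov (ones 2058) L 1 = true := by decide +kernel

theorem hg : lall (fun z => band (memL L z) (band (sub (ones 2058) (T.let z).cl) (T.closed (ones 2058) z))) gs = true := by decide +kernel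

theorem hivk : ivOk (2 * 7) EX IV = true := by decide +kernel

theorem hrt : RT.ok (2 * 7) EX RL = true := by decide +kernel

theorem hdefs : defs F 621 = true := by decide +kernel

noncomputable def st0_l : List Nat := [nat_lit 0x3ff, nat_lit 0x3ff, nat_lit 0x3ff, nat_lit 0x3ff, nat_lit 0x3ff, nat_lit 0x3ff, nat_lit 0x3ff, nat_lit 0x26f80000403, nat_lit 0x27080000403, nat_lit 0x27180000403, nat_lit 0x60000000000c03, nat_lit 0x4e50026d80000404, nat_lit 0x4dd0026f80138404, nat_lit 0x2c0000a0000200000004, nat_lit 0x1000000004dd0000080001405, nat_lit 0x1000000004db0027080137400002004f1000028013dc09, nat_lit 0x1000000004db0026e800004009e2000050027b8013e409, nat_lit 0x20026d80000c03, nat_lit 0x20026e80000c03, nat_lit 0x40027680001403, nat_lit 0xc0000200001c03, nat_lit 0x9ec00004002748013ac04, nat_lit 0x140000500001400004002788013a40000a0000b0000a8000a40a, nat_lit 0x14801418000500001400005000010009d200005000058000540a, nat_lit 0x1400005000014000040027480001400016000150001480141c0a,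 nat_lit 0x5000010009d200005000058000540005200507000140000500a, nat_lit 0x60027880001c03, nat_lit 0x380000c004e90000380003c05, nat_lit 0x80027e80002403, nat_lit 0x80027700003c03, nat_lit 0x1d00008800020000080027f8013f40001200011000118000ec0a, nat_lit 0x118000ec00a2c0003a0001100004000010004ff000048000440a, nat_lit 0xa0027b80002c03, nat_lit 0x4c00014000050013ec04, nat_lit 0x5800014004fb0000580005c05, nat_lit 0x6000014005010000580006405, nat_lit 0x18005010027d80003404, nat_lit 0xe0028780003c03, nat_lit 0x240000800004c03, nat_lit 0x8000020005150000d8000bc05, nat_lit 0x14a000040005180000800145400a4a0001b0001780013409, nat_lit 0x2a0000a00005c03, nat_lit 0x98000280051b0000a80009c05, nat_lit 0xf000a5c000260028400005000a360050d0000b8014b009, nat_lit 0x14b80004c005080000a00146c00a1a00015000138000f409, nat_lit 0x160028d80005c03, nat_lit 0x1a0029280006c03, nat_lit 0x320000d00007403, nat_lit 0xd800a520002e0029b00006800a28005130000980149809, nat_lit 0x680001c0028880007c04,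 nat_lit 0x14e400038005250028a00004400a32000210029480013409, nat_lit 0x53a0001b00008000a32000210001b8014ec07, nat_lit 0x14ec00a80000240000800145400a4a0001b0001780013409, nat_lit 0x3e000130000a403, nat_lit 0x5300001e00009800a12000270001e8014c407, nat_lit 0x18000080000280001580011c05, nat_lit 0x2c0029600012403, nat_lit 0x128000580051f0001680012c05, nat_lit 0x4e000170000c403, nat_lit 0x53f000260000b800a6e0002f000268014f807, nat_lit 0x1b8000a0000300001980014c05, nat_lit 0x340029c00015403, nat_lit 0x4b000210000d0005420001b0000e4000ae00075000468002740a, nat_lit 0x4b80155c001380008c0003a0001580007000529000278001ac0a, nat_lit 0x580001e0000fc03, nat_lit 0x1700007c005330002c8001e405, nat_lit 0x400028580010403, nat_lit 0x40002a200017403, nat_lit 0x400028380010403, nat_lit 0x620002000011403, nat_lit 0xc4000400002180019404, nat_lit 0x420028380010c03, nat_lit 0x46002a380011c03, nat_lit 0x460029800016403, nat_lit 0xa9200046002968014d404, nat_lit 0x1b00009c0052b0003480021c05,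 nat_lit 0x50002a70001b403, nat_lit 0x52002a880014c03, nat_lit 0x520029f8001a403, nat_lit 0x11c000760002c0014c804, nat_lit 0x5a002ad0001dc03, nat_lit 0x7c0002d00017c03, nat_lit 0x16800a8a00507002a200016c05, nat_lit 0x23800af40005a002a280142c00a0e00544002ad0001e409, nat_lit 0x152400ad40056d0003b8015e800afc0005a002ad0015b009, nat_lit 0x158000ac40004000285001510000b60057b0004780160409, nat_lit 0x1610000b80005b002bf8015ec000ec0056c002b580160809, nat_lit 0x64002b480019403, nat_lit 0x6e002b98015c403, nat_lit 0x70002bb80022403, nat_lit 0x760003c80160003, nat_lit 0x7e002be00024c03, nat_lit 0x130000860004480026c04, nat_lit 0x8a002c580026403, nat_lit 0x56f0027a801398009e4005040028e0015e007, nat_lit 0xb1e00596002c300160004, nat_lit 0x2ae80160000b3000076002ad8000f800a5e0003f0002d8001ec0a, nat_lit 0x15ec0011e00581002c200158000ac60055f002b080166c09, nat_lit 0x1200059c0003e80024c04, nat_lit 0xa20028680028c03, nat_lit 0xa20028d80028c03, nat_lit 0xa4002d080029403,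 nat_lit 0xa40005100005403, nat_lit 0xa6002d080029c03, nat_lit 0xa6002d180029c03, nat_lit 0xa8002d08002a403, nat_lit 0xa8002d18002a403, nat_lit 0xa80005100005c03, nat_lit 0x154000a9002d88000b404, nat_lit 0xac002d380009c03, nat_lit 0x2b000148005a3000528002b405, nat_lit 0xae002d28002bc03, nat_lit 0xb0002d28002c403, nat_lit 0xb0000520002a403, nat_lit 0xb0002d38000ac03, nat_lit 0xb2002d28002cc03, nat_lit 0xb2000520002ac03, nat_lit 0x164000b1002df80012404, nat_lit 0xb4002d48002d403, nat_lit 0xb6002d48002dc03, nat_lit 0xb6002d58002dc03, nat_lit 0xb8002d48002e403, nat_lit 0xb8002d58002e403, nat_lit 0x2e80014c000a20000500003405, nat_lit 0xbc000540002ac03, nat_lit 0x178000a80005100006404, nat_lit 0x30000b6e000ac002d28002c400b7a005af002d68016f009, nat_lit 0x30000158000a4002d080168c0014a005a5000568016dc09, nat_lit 0xc2000560002bc03, nat_lit 0xc4002dc80031403, nat_lit 0xc6002dc80031c03, nat_lit 0x3280015c005a70001480011405, nat_lit 0xcc002dd80033403, nat_lit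 0xce000580002cc03, nat_lit 0xd0002e080034403, nat_lit 0x1a4000b4000530002a404, nat_lit 0x34800168005ab0005a80034c05, nat_lit 0xd4002e380035403, nat_lit 0xd6002e380035c03, nat_lit 0xd60005a0002dc03, nat_lit 0xda002e380036c03, nat_lit 0xda0005a0002ec03, nat_lit 0xde0005b0002ec03, nat_lit 0xe0002e680038403, nat_lit 0xe0002e780038403, nat_lit 0x38000170000a6000558002fc05, nat_lit 0x1c4005f60006f00037404, nat_lit 0x38800ba200523002e800038c05, nat_lit 0x39000baa00521002ea00039405, nat_lit 0xec0006000030c03, nat_lit 0xec002eb80033403, nat_lit 0xf2002ed80032403, nat_lit 0x3d000184005b50001f80017c05, nat_lit 0xf8002ee8003e403, nat_lit 0xfc002ef8003f403, nat_lit 0x3f00018c000ae0005880033405, nat_lit 0xfe0006300032c03, nat_lit 0x40000190000ae0005980034405, nat_lit 0x104002f180041403, nat_lit 0x10a002f380042c03, nat_lit 0x110002f580044403, nat_lit 0x44000bd6000d2002e380035c00be2005cb002e48017c009, nat_lit 0x440001a4000b4002d48016ac0016a005c7000698017ac09, nat_lit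 0x1120006900035403, nat_lit 0x1160006900036c03, nat_lit 0x118002f680046403, nat_lit 0x11c002f680047403, nat_lit 0x122002f880037403, nat_lit 0xd80006d8017d400ba20052200006000010009d0004ec0000380140800ba0000e3002ff8018a00f, nat_lit 0x9000048c00c54000d80006a80047406, nat_lit 0x31600048002, nat_lit 0x124002f780049403, nat_lit 0x1240006b00036c03, nat_lit 0x24c000d80006b80049404, nat_lit 0x128002f98004a403, nat_lit 0x12a002fa80038c03, nat_lit 0x254006320009200048c04, nat_lit 0x12c002fc8004b403, nat_lit 0x12c002fe80039c03, nat_lit 0x12e003018004bc03, nat_lit 0x4b8001c8005d30005f8003a405, nat_lit 0x136000730003ac03, nat_lit 0x138000740003ac03, nat_lit 0x4e000c8400641003218004e405, nat_lit 0x4e800c8c00649003238004ec05, nat_lit 0x4e8001d4000be002d980012c05, nat_lit 0xc940064d002a680193004, nat_lit 0x4f0002760064f0009d0004f405, nat_lit 0x13e003028003bc03, nat_lit 0x500001d8005d9000618003c405, nat_lit 0x142003028003cc03, nat_lit 0x1420030380041c03, nat_lit 0x510001dc005db000628003dc05,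 nat_lit 0x146000770003c403, nat_lit 0x148000780003d403, nat_lit 0x14a0030480040c03, nat_lit 0x294000f20007880052404, nat_lit 0x14c0032f00198803, nat_lit 0x1500007b0003e403, nat_lit 0x1520007b0003ec03, nat_lit 0x1540030680055403, nat_lit 0xaa001834001f0000c4000570002900014e000b50006a8004640a, nat_lit 0x15a0030780056c03, nat_lit 0x15a0030880041403, nat_lit 0x56800c22005e3003030004fc00ca6001450032d80053c09, nat_lit 0x57800c26005e1002b200020405, nat_lit 0x1600030a80043403, nat_lit 0x166003380019cc03, nat_lit 0x59800208005e3003030004fc00ca6001450032d80054c09, nat_lit 0x1680030b8005a403, nat_lit 0x5a80020c000cc0006780042405, nat_lit 0x2d8001060030800057404, nat_lit 0x5b800210005e50006880043405, nat_lit 0x1720030c8005cc03, nat_lit 0x1740008500034000164005a70000a00002800a020000d0028180003c0003e0053c002aa8001cc0f, nat_lit 0x1c0000a40005500039801a1805, nat_lit 0x1760008600043c03, nat_lit 0x2ec00676000b000058c04, nat_lit 0x5e00021c000d0002e280019c05, nat_lit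 0x17a0008800044c03, nat_lit 0x17a0030e8018b803, nat_lit 0x6210008e801a4803, nat_lit 0x5f0002f6006940008900045405, nat_lit 0x17e0008800045c03, nat_lit 0x17e0030e80049403, nat_lit 0x17e0030f80045c03, nat_lit 0x1820031080046c03, nat_lit 0x30c001140030f0005fc04, nat_lit 0x188003118004a403, nat_lit 0x18a0034e001a8003, nat_lit 0x3140069c000bf0005f404, nat_lit 0x18e0008c00046c03, nat_lit 0x1900031280064403, nat_lit 0x1900008c00047403, nat_lit 0x64800234000d40006b8018b805, nat_lit 0x11a0008e801ab803, nat_lit 0x1940008d00047c03, nat_lit 0x32c0011c0008d80065404, nat_lit 0x19a00359001ad003, nat_lit 0x334006b2000ca001ac404, nat_lit 0x19c0031880067403, nat_lit 0x68800c760062a0009380067c05, nat_lit 0x1a40031f8004c403, nat_lit 0x69000258005fb0009680069405, nat_lit 0x1a80031f8004d403, nat_lit 0x1ae000980004dc03, nat_lit 0x1ba0009a0004dc03, nat_lit 0x374006c2000d40006ac04, nat_lit 0x1be003228004f403, nat_lit 0x37c006c6000dd001b0804, nat_lit 0x7000027c006070008280059c05,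 nat_lit 0x1c20032980051c03, nat_lit 0x1c20009f00050403, nat_lit 0x1c60032b80052c03, nat_lit 0x1c60032c8005b403, nat_lit 0x38c00142000a080071404, nat_lit 0x72000288000ee0030200181c0020a00617000b3801b3809, nat_lit 0x1ca000e4801b6c03, nat_lit 0x1ca000a200051c03, nat_lit 0x1d00033080059403, nat_lit 0x748002980060b0003f80025405, nat_lit 0x1d4000a700054403, nat_lit 0x1d80033380055c03, nat_lit 0x1da0033480056403, nat_lit 0x1dc0033680063403, nat_lit 0x1de000aa00055c03, nat_lit 0x3bc0066d0008c00188004, nat_lit 0x788002ac000f80007d80056405, nat_lit 0x1e60033780079c03, nat_lit 0x1e60033980075403, nat_lit 0x7a0002b8000fc0007f80057c05, nat_lit 0x7b0002c4001000008180059405, nat_lit 0x1f20033d80076c03, nat_lit 0x1f2000b30005a403, nat_lit 0x1f40033e8007d403, nat_lit 0x1f80033f8005bc03, nat_lit 0x3fc00700000fc0007ec04, nat_lit 0x200000b80005cc03, nat_lit 0x202000b80005d403, nat_lit 0x58c00344801c1803, nat_lit 0x102001a14002e40010a0006800170c0017e000e7000998006c40a,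 nat_lit 0x20e0034880060403, nat_lit 0x20e0034a00060403, nat_lit 0x2100034880060c03, nat_lit 0x840002f40061f0008980060c05, nat_lit 0x2120034c80062403, nat_lit 0x2120034d80067403, nat_lit 0x428001800008900187804, nat_lit 0x85000300006210008c80063405, nat_lit 0x218000c000060c03, nat_lit 0x21a000c000061403, nat_lit 0x88800d4e00697000c380087405, nat_lit 0x226000c600063c03, nat_lit 0x228000c600064403, nat_lit 0x89800e34002140038600083800d260062600356001c9009, nat_lit 0x22400114801c9803, nat_lit 0x22c00391001ca003, nat_lit 0x22c00354801ac403, nat_lit 0x2320035680065c03, nat_lit 0x46400190000c78008bc04, nat_lit 0x73000119001ab400c5e001230031d0018e400c02000e20005d0002d4001aa0011d000cb801cb80f, nat_lit 0x8c00046600732001170008ac05, nat_lit 0x8d80032c0062f0009280067405, nat_lit 0x8e800d7200192000ca8008d405, nat_lit 0x23c0035d8008f403, nat_lit 0x9100033c00635000ce80090405, nat_lit 0x12400068000c6e00128002fa80174400a060000f0000d8000c40a, nat_lit 0x24a0035e80090c03,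 nat_lit 0x24c0035f8006b403, nat_lit 0x930003480012c002fc8017ec0025a0063d000d2801b0409, nat_lit 0x250000d20006ac03, nat_lit 0x256000d60006bc03, nat_lit 0x4ac00742003a280094404, nat_lit 0x258003628006f403, nat_lit 0x25a003628006fc03, nat_lit 0x25c000d80006d403, nat_lit 0x97800364001320009a8006e405, nat_lit 0x260000d90006dc03, nat_lit 0x4c4001b4000d980098404, nat_lit 0x9900036c001320009b8006f405, nat_lit 0x2740036880073403, nat_lit 0x9d80038800655000a480073c05, nat_lit 0x2780036a80074403, nat_lit 0x2780036b8007f403, nat_lit 0x27a0036e8009cc03, nat_lit 0x27a0036f80073403, nat_lit 0x282003708007c403, nat_lit 0xa08003a000663000e78009fc05, nat_lit 0x2840037180027c03, nat_lit 0xa18003a400665000e8800a0405, nat_lit 0x28a0037280075c03, nat_lit 0x28c0037280076403, nat_lit 0xa38003ac00667000aa80077405, nat_lit 0x2900037380078c03, nat_lit 0xa40003b000150000a980076c05, nat_lit 0x2940037580089403, nat_lit 0xa60003bc0066d000c78008ac05, nat_lit 0xa68003c00066d000c88008c405,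 nat_lit 0x29c0037880079403, nat_lit 0x2a000379800a8403, nat_lit 0xa80003cc00671000b48007dc05, nat_lit 0x2a4000f50019d403, nat_lit 0x548001ea0037b000a8c04, nat_lit 0x2a8000f70007c403, nat_lit 0x550001ee0037c000a9c04, nat_lit 0x2aa003c4001e2c03, nat_lit 0x2ac0037d800a4c03, nat_lit 0xab8003e400679000ea800a3405, nat_lit 0x2b2000fa0007dc03, nat_lit 0xad0003f40016a000b68007f405, nat_lit 0xae0003f800681000f4800a8c05, nat_lit 0xae8003fc00683000bb80082405, nat_lit 0x2bc0038280081c03, nat_lit 0xaf000400002030038400026c05, nat_lit 0x2c00010200081c03, nat_lit 0x2c2003cd001e7403, nat_lit 0x595002c9801e8003, nat_lit 0xb10004100068b000bc80083405, nat_lit 0xb18004100068d000f6800a9c05, nat_lit 0x2c80010500083403, nat_lit 0x2cc0038780085403, nat_lit 0x5980020e000bd00187c04, nat_lit 0xb300041c0069300356001c9005, nat_lit 0x2ce0038680085c03, nat_lit 0x2d00038680086403, nat_lit 0x2d00010700084403, nat_lit 0x2d20038a80087c03, nat_lit 0x2d40038d80089403, nat_lit 0x5a80021400386000b3404,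 nat_lit 0xb5000e360018c0031280063c00d520069e00388001ed009, nat_lit 0xb50004280018000348001a4c00d58006ab00392001eb809, nat_lit 0x30600712003da001ef004, nat_lit 0x2d60010a00085c03, nat_lit 0x2d80016a801efc03, nat_lit 0x2d80010a00086403, nat_lit 0x2d80038d80089c03, nat_lit 0x5aa007bd003d9801f1804, nat_lit 0x422007130038e001f1804, nat_lit 0x2e40010c00086c03, nat_lit 0xbb00043c006a3000d080091c05, nat_lit 0xbb80044000188000c580088c05, nat_lit 0x2f000390800ba403, nat_lit 0xbc800444006a50010e800bac05, nat_lit 0x2f4003918008ac03, nat_lit 0x2f6003928008c403, nat_lit 0x7d90039a001f6803, nat_lit 0x2fc00395801de003, nat_lit 0xa8000de4006f500145801dbc0051e007730014a801f7809, nat_lit 0x17c0008a800d520019300396000bf400fc000781003c1801e480a, nat_lit 0x3020039b8008f403, nat_lit 0x3040039b8008fc03, nat_lit 0xc180046c006b50011a800c0405, nat_lit 0xc200047000198000cd8008ec05, nat_lit 0x30a0039c800bfc03, nat_lit 0xc3000474006b70011b800c1405, nat_lit 0x30e0011e0008fc03,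 nat_lit 0x3100039d800c4403, nat_lit 0x3100011e00090403, nat_lit 0x624002400011f801f9804, nat_lit 0x3140012100091403, nat_lit 0xc5800fa0002ec003db000b4800e2e006bb0011f801fc009, nat_lit 0x3180012300092403, nat_lit 0x31c003a380095403, nat_lit 0xc78004a4001a6000d580095405, nat_lit 0x326003a480096403, nat_lit 0x328003a68009bc03, nat_lit 0x32a003a78009c403, nat_lit 0x32e003a880098c03, nat_lit 0x330003a980099c03, nat_lit 0x334003a98009a403, nat_lit 0x338003ac8009b403, nat_lit 0xcf0004d0001b8000dd8009ac05, nat_lit 0x67c0080c0019a000ccc04, nat_lit 0xd08004d4006c90012a800c9405, nat_lit 0x6880026e0013680203804, nat_lit 0x34c003af800a0403, nat_lit 0x34c003b0800adc03, nat_lit 0x34e003af800a0c03, nat_lit 0x34e003b0800ae403, nat_lit 0xd38004f0006d90013b800d2c05, nat_lit 0x350003b1800d2403, nat_lit 0x1aa0009f000eb4002740036980195400cb8001cd0013e800d540a, nat_lit 0x6ac0027e003ae000d2c04, nat_lit 0x35800140000a0c03, nat_lit 0x35a003b3800aac03, nat_lit 0x35c00142000a1c03,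 nat_lit 0x35e00142000a2403, nat_lit 0x36400145000a3403, nat_lit 0x366003b9800a5403, nat_lit 0xd9800ee6001dc0033580077c00dda006e6003b80020c009, nat_lit 0x55e00791004180020d004, nat_lit 0x368003bb800a4c03, nat_lit 0xda800524006e9000f2800a7c05, nat_lit 0xdb00052c006eb00113800bd405, nat_lit 0xf8c007c90017a8020f004, nat_lit 0x36e003bd800bec03, nat_lit 0x6dc0077b0039a001df004, nat_lit 0x370003bf800a7c03, nat_lit 0xdc8010740036a003c7000ab000dfa0067d000fb801e4809, nat_lit 0xdd800f0a00080002b380020c05, nat_lit 0x346001380006f80026c000e60005f0002a800144000150001480010c000ca00588000418021200f, nat_lit 0xde800558006fd000fa800ac405, nat_lit 0x37e003c78020e003, nat_lit 0x37e00156000abc03, nat_lit 0x708002b6003ca000e0c04, nat_lit 0xe1800f2e00786001bb80212805, nat_lit 0xe2000574007030015a800e0c05, nat_lit 0xe280057c0070b0012e800cb405, nat_lit 0x38c00162000b1c03, nat_lit 0x718002c4003cc000e2404, nat_lit 0x38e003d4800b2c03, nat_lit 0x724002ca00106001a3c04, nat_lit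 0x314003a0000928003440012a0006d0002d00014c000ab002d980152c000ce00860001c90021780f, nat_lit 0x39400166000b3c03, nat_lit 0x396003d8800b6c03, nat_lit 0x1cb001ec40042c00180000890017ac00226001810010b800b6c0a, nat_lit 0x398003d8800b7403, nat_lit 0x39a003d9800b8c03, nat_lit 0x39c0016a000b5c03, nat_lit 0x39c003de800e6c03, nat_lit 0x3a0003e1800b7403, nat_lit 0x740002d60038d80063004, nat_lit 0x3a2003e2800e5403, nat_lit 0x3a2003e3800b8c03, nat_lit 0x10ec00879004360021c004, nat_lit 0xf86007b0004320021d804, nat_lit 0x748002da0010b00086404, nat_lit 0x3a60016d000b7403, nat_lit 0xea8005b8002160010c800b8c05, nat_lit 0x3ae0016e000b8403, nat_lit 0xec0005c0002160010d800b9c05, nat_lit 0x76400884001d7000eb404, nat_lit 0x784002ea00390001f4804, nat_lit 0x3c4003e9800bc403, nat_lit 0x3c600178000bcc03, nat_lit 0x3c6003ea800f0403, nat_lit 0x3c8003ee0020f003, nat_lit 0x790002f6003d7000b3004, nat_lit 0x3ca0017c000bec03, nat_lit 0x3ce00181000c1c03, nat_lit 0x3d0003f5800c2c03,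 nat_lit 0x3d400185000c3403, nat_lit 0x3d4003f6800f3403, nat_lit 0x7b00030e003f2000f3c04, nat_lit 0x3da003f9800f6c03, nat_lit 0x3dc0018b000c6403, nat_lit 0x3dc003fd800f5c03, nat_lit 0xf7800ffa0073f002a70001ac05, nat_lit 0x154c00ae8005770004280156401150003de0045200229c09, nat_lit 0x7a40030a0039c800c0400fd00089800450000f60007ae008aa00045801e8c005840079e00160000afc10, nat_lit 0x38a00456000f4803, nat_lit 0x89b0045700216403, nat_lit 0x45800226c02, nat_lit 0x843003be8008c000d5a001970035a8008d4005fe007ec00459000cb000ea200263003ab800cdc0f, nat_lit 0x8b40042080225803, nat_lit 0x22d80066c0075500132800ce405, nat_lit 0x205c01170003ca003f1800e0405, nat_lit 0xf80006340024e00128800c7405, nat_lit 0x3e4003ff800c8c03, nat_lit 0x3e800400800c8403, nat_lit 0x3ee00190000c8c03, nat_lit 0x3f000190000c9403, nat_lit 0x3f200401800ca403, nat_lit 0xfc80064c0074b0018e800f9c05, nat_lit 0xfd000650002580012d800cac05, nat_lit 0x3f600402800d1403, nat_lit 0x7f4008b3001ea80227c04, nat_lit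 0x3fc004048009880036800132000730003ac0027a0065100365001b3400d86001b900133800cec0f, nat_lit 0x3fe00198000ccc03, nat_lit 0x7fc0080b0019d80234004, nat_lit 0xfe8006580032f001fe80235005, nat_lit 0x40000408800d0403, nat_lit 0x8d800200000cf00067e00813004690023580119e0089e0044e801fbc00fec00312003fa000f6c0f, nat_lit 0x8da001a0000d0c03, nat_lit 0x8c50040a00237001146003da003fa801cf000ff0008630042f800e440b, nat_lit 0x46f000fc002, nat_lit 0x1f600238000720002ca003d2000e3406, nat_lit 0x471000fb002, nat_lit 0x1f7002390010b6007a7003c6000de406, nat_lit 0x47300230c02, nat_lit 0x2304011c80085d0042b80214805, nat_lit 0x4060040c800d6403, nat_lit 0x4060040d800e1403, nat_lit 0x4080040e800d6c03, nat_lit 0x4080040f800e1c03, nat_lit 0x4020042a0023c803, nat_lit 0x1028006a0007650013e800d4c05, nat_lit 0x40c0041180101403, nat_lit 0x40e001a9000d5403, nat_lit 0x10400104e00820002048023d005, nat_lit 0x10480105200769001ab80104405, nat_lit 0x414004780023d003, nat_lit 0x41400415800de403,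 nat_lit 0x41600416800d8403, nat_lit 0x416001ae001dac03, nat_lit 0x41800416800d8c03, nat_lit 0x418001ae000d7c03, nat_lit 0x830004170048380028404, nat_lit 0x82f00144001b8c0012800591002cf000240000f40005a0002f8001fc0012a0009f000508024300f, nat_lit 0x8340090a0020c00105c04, nat_lit 0x1070006c00076d001ac80104c05, nat_lit 0x1080006d0007750014e800dc405, nat_lit 0x1080006d0007770037d001bf4003ea006ff0015880213009, nat_lit 0x422001b5001e38006f6009160021000213807, nat_lit 0x4240041d800dd403, nat_lit 0x428001b9000dd403, nat_lit 0x42800423800e0403, nat_lit 0x8cd0045d80247803, nat_lit 0x42a0048e00248003, nat_lit 0x8c7001fb80248803, nat_lit 0x858003740042200109c04, nat_lit 0x42e001bd000df403, nat_lit 0x43400434800e9403, nat_lit 0x8680039600167000b4404, nat_lit 0x43600433800e9c03, nat_lit 0x436001cb000e6403, nat_lit 0x86c008690016d001f0804, nat_lit 0x43800433800ea403, nat_lit 0x43a00435800eac03, nat_lit 0x10e800730002ce00168800e6c05, nat_lit 0x43c00436800ed403, nat_lit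 0x43e00437800e7c03, nat_lit 0x44000437800e8403, nat_lit 0x440004388024e003, nat_lit 0x8840039e0016b000b6404, nat_lit 0x11080073c007c30016d800e9405, nat_lit 0x446001cf000e8403, nat_lit 0x44800439800eac03, nat_lit 0x112000740002d60016c800e8c05, nat_lit 0x127c009410049b80252004, nat_lit 0x44a0043b8010cc03, nat_lit 0x44e001d2000e9c03, nat_lit 0x45200440800eb403, nat_lit 0x45400441800ed403, nat_lit 0x1150011060086c004380010fc0127a00443004a280113409, nat_lit 0x5ba003ab0022a80255c04, nat_lit 0x45600443800eec03, nat_lit 0x458004aa00255c03, nat_lit 0x8b0003b40017100086004, nat_lit 0x1160007680086c004380010fc0127a00443004a280113c09, nat_lit 0x22d000ed0010d80039a003da801c4c00e38002e3001da80116c0a, nat_lit 0x45e001da000edc03, nat_lit 0x11800076c002e200172800ee405, nat_lit 0x118800770007cf00173800ef405, nat_lit 0x464001dd000ef403, nat_lit 0x466001dd000efc03, nat_lit 0x8d4003c0003ea00223004, nat_lit 0x46c00446801f54005d00021c003508005f800c360017b0034a00061400e3c002e7001df8011a40f,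 nat_lit 0x96d002348025c003, nat_lit 0x46e0045e800f9403, nat_lit 0x11c0007c4007ff00190800fac05, nat_lit 0x474001f1000f9403, nat_lit 0x476001f1000f9c03, nat_lit 0x8f0003e6001f28025d004, nat_lit 0x11e00119000925002150010b405, nat_lit 0x47a004758023b803, nat_lit 0x47a00460800fac03, nat_lit 0x4120047600260003, nat_lit 0x47c004c100261003, nat_lit 0x47e00465800fe403, nat_lit 0x1200007f000807001a380100c05, nat_lit 0x4820020500103403, nat_lit 0x2420023e4008080034800139001b3c003e6002ad001be8010c40a, nat_lit 0x1218011f6008250047d00121c05, nat_lit 0x4880047e80262803, nat_lit 0x48a0047f80122403, nat_lit 0x48c0048080262803, nat_lit 0x123001206008e90045f0025e005, nat_lit 0x48e0048980122c03, nat_lit 0x4920048b8010bc03, nat_lit 0x4940048d8010b403, nat_lit 0x92c0098e0024200263004, nat_lit 0x12600086400865001cb8010d405, nat_lit 0x932009a30049580113c04, nat_lit 0x49c0049580113403, nat_lit 0x9380043400433800e9404, nat_lit 0x49e0021a0010dc03, nat_lit 0x93c0092b004a200110804,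 nat_lit 0x12c200951004970026a804, nat_lit 0x12700043a004980026a804, nat_lit 0x4a00021a0010e403, nat_lit 0x4a20049b80115403, nat_lit 0x4a20049c8010f403, nat_lit 0x1288012720086d0043c00112c0129e00499004d180127409, nat_lit 0x7320043b002518026e404, nat_lit 0x12ac009b4004dc80127004, nat_lit 0x957004d30026e003, nat_lit 0x9480043c001cd000b4004, nat_lit 0x4a40049d801164012c200951004970026a807, nat_lit 0x12980136c009be004aa80116c05, nat_lit 0x10e20043d0025380271404, nat_lit 0x12a00087c008710021e80129405, nat_lit 0x4aa0049e80111403, nat_lit 0x4ac0021f00110403, nat_lit 0x4ae004a280113403, nat_lit 0x4b00022100111403, nat_lit 0x4b20022100111c03, nat_lit 0x129400448004a300274804, nat_lit 0x25a002728009540043e001ce001ee400ef0008320020f8012440a, nat_lit 0x4b6004a580112c03, nat_lit 0x12d80129200455004ab80273805, nat_lit 0x4b8004ec00276c03, nat_lit 0x9700044a001d1000b6004, nat_lit 0x4ba004a780126c03, nat_lit 0x4c0004ad80119403, nat_lit 0x9800095b002338025cc04, nat_lit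 0x4c20022c00116c03, nat_lit 0x12aa0045b004b100279804, nat_lit 0x99400462004b300132404, nat_lit 0x1338012de0046d004b900133405, nat_lit 0x4ce002350022400111e007d7001e180222c0078a0046d004f200278c012d600968002658027ac0f, nat_lit 0x9ec004f78027a803, nat_lit 0x98c0045c0022f802594008c2004c9004f50027c00099800466004ad00115800760003b30044480254810, nat_lit 0x4be004f900131803, nat_lit 0x4fa0012f802, nat_lit 0x25e001140008a6009f60022e00116c06, nat_lit 0x4c4004fc0012f003, nat_lit 0x4fd00131002, nat_lit 0x4d0004bb8011f403, nat_lit 0x4d2002380011cc03, nat_lit 0x4d6004bd8011e403, nat_lit 0x4d8004c480120403, nat_lit 0x133600995004c980281004, nat_lit 0xa04005030012380083800360001b18024200121c0041b004888024140083a00913004c30027f80f, nat_lit 0x9a4004d10050400265804, nat_lit 0x9980050500280403, nat_lit 0x4d4005060025e403, nat_lit 0x50700135002, nat_lit 0x9240091500213802498012fc00a020026b0011d8008e600a10004ba0025f0012fe0099e0024a00109010, nat_lit 0x99c0050980108c03,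 nat_lit 0x9180050a0024a403, nat_lit 0x4300050b00214403, nat_lit 0x4960050c800ab803, nat_lit 0x9a00050d8020dc03, nat_lit 0x41e0050e00120803, nat_lit 0x4900050f8023dc03, nat_lit 0x9d70051080103c03, nat_lit 0x486005110012d003, nat_lit 0x13a200a24004c880289404, nat_lit 0x4b10051380111003, nat_lit 0x4ae005148024f003, nat_lit 0x94400514800e7803, nat_lit 0x4b20051480111c03, nat_lit 0x9ad0051400250c03, nat_lit 0x9db005158012a403, nat_lit 0x9ce005158010f803, nat_lit 0x9dd005158012b403, nat_lit 0x3a500516801f0c03, nat_lit 0x92b00516800b5803, nat_lit 0x44e00516800e8403, nat_lit 0x9a9005168021f403, nat_lit 0x933005160021fc03, nat_lit 0x51700275002, nat_lit 0x9c300518801f1403, nat_lit 0x9af00518801f2803, nat_lit 0x9b100518801f3003, nat_lit 0x96e00a33004e480291404, nat_lit 0x12ae00a350043880292404, nat_lit 0x147c009a70051a800e7004, nat_lit 0x88000a34004ae00291c04, nat_lit 0x10f600a34004de8028ec04, nat_lit 0x9c60051a00256003, nat_lit 0x51b00277c02, nat_lit 0x8670051c801ec003,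 nat_lit 0x14b0008690051c80085804, nat_lit 0x3a60051c800b7403, nat_lit 0x3a80051c800b7c03, nat_lit 0x4a00051d801ea803, nat_lit 0x92c0051d801c6403, nat_lit 0x9a50051e8021d403, nat_lit 0x29680137600a3f00527801f0005, nat_lit 0x29700125c00a41003d900298c05, nat_lit 0x9c000522801eb403, nat_lit 0x4c200523800b5c03, nat_lit 0x14cc0095e00523801c6404, nat_lit 0x87100524801a4c03, nat_lit 0x89200a4b001ca80294c04, nat_lit 0xf7600a4a004a60029cc04, nat_lit 0xf9800a4c004f48029b404, nat_lit 0x89400a4f0053a801c6c04, nat_lit 0x14ae00a740052700290804, nat_lit 0x14f4009cd00528801c6c04, nat_lit 0x29d8005b000a50002200029c405, nat_lit 0xe3400a520021980299404, nat_lit 0x72a00a530016b8029fc04, nat_lit 0x9fd0052a800b7c03, nat_lit 0x21c002964014b600a67005378005f406, nat_lit 0xbd0029b8014cc00a5a001670029ac06, nat_lit 0x542001140014ba00a69000bd802a2406, nat_lit 0x2a180126a00a5f0054580044405, nat_lit 0xa8c005430026c8014c200a8300349002a2407, nat_lit 0x1ec8014c600a8f00088802a3c05,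 nat_lit 0x29d000f7a00a630054780034805, nat_lit 0x49a005328019b003, nat_lit 0x895005358017a403, nat_lit 0xdde00a6f005478017a404, nat_lit 0x5400029f00128e00a73005498002d006, nat_lit 0x12e8014f200a810054d80029805, nat_lit 0x83e005488017a403, nat_lit 0xcd400a94004f0002a7404, nat_lit 0x153c008920054b8016c404, nat_lit 0x2a80003be00a990055180005805, nat_lit 0x51802a9402]
theorem st0 : band (steps F IV RT base st0_l 621) (Nat.beq (Nat.add 621 (llen st0_l)) 1364) = true := by decide +kernel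

theorem rot1_1 : T.rot 1 [1] (sel (ones 2058) ip1 1) = true := by decide +kernel

theorem rot1_1r : band (Rule.ok (2 * 7) EX RL ⟨1 :: [1], [], 25, false⟩) (lall (memL L) [1]) = true := by decide +kernel

theorem rot1_2 : T.rot 1 [3, 1, 3] (sel (ones 2058) ip1 2) = true := by decide +kernel

theorem rot1_2r : band (Rule.ok (2 * 7) EX RL ⟨1 :: [3, 1, 3], [], 1, false⟩) (lall (memL L) [3, 1, 3]) = true := by decide +kernel

theorem rot1_3 : T.rot 1 [4, 1, 4] (sel (ones 2058) ip1 3) = true := by decide +kernel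

theorem rot1_3r : band (Rule.ok (2 * 7) EX RL ⟨1 :: [4, 1, 4], [], 2, false⟩) (lall (memL L) [4, 1, 4]) = true := by decide +kernel

theorem rot1_4 : T.rot 1 [5, 1, 5] (sel (ones 2058) ip1 4) = true := by decide +kernel

theorem rot1_4r : band (Rule.ok (2 * 7) EX RL ⟨1 :: [5, 1, 5], [], 3, false⟩) (lall (memL L) [5, 1, 5]) = true := by decide +kernel

theorem rot1_5 : T.rot 1 [6, 1, 6] (sel (ones 2058) ip1 5) = true := by decide +kernel

theorem rot1_5r : band (Rule.ok (2 * 7) EX RL ⟨1 :: [6, 1, 6], [], 4, false⟩) (lall (memL L) [6, 1, 6]) = true := by decide +kernel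

theorem rot1_6 : T.rot 1 [7, 1, 7] (sel (ones 2058) ip1 6) = true := by decide +kernel

theorem rot1_6r : band (Rule.ok (2 * 7) EX RL ⟨1 :: [7, 1, 7], [], 5, false⟩) (lall (memL L) [7, 1, 7]) = true := by decide +kernel

theorem rot1_7 : T.rot 1 [2, 1, 9, 2] (sel (ones 2058) ip1 7) = true := by decide +kernel

theorem rot1_7r : band (Rule.ok (2 * 7) EX RL ⟨1 :: [2, 1, 9, 2], [], 25, false⟩) (lall (memL L) [2, 1, 9, 2]) = true := by decide +kernel

theorem rot1_8 : T.rot 1 [2, 1, 2, 1, 2, 1, 2] (sel (ones 2058) ip1 8) = true := by decide +kernel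

theorem rot1_8r : band (Rule.ok (2 * 7) EX RL ⟨1 :: [2, 1, 2, 1, 2, 1, 2], [], 0, false⟩) (lall (memL L) [2, 1, 2, 1, 2, 1, 2]) = true := by decide +kernel

theorem rot1_9 : T.rot 1 [2, 3, 1, 2, 3, 1, 2, 3, 5] (sel (ones 2058) ip1 9) = true := by decide +kernel

theorem rot1_9r : band (Rule.ok (2 * 7) EX RL ⟨1 :: [2, 3, 1, 2, 3, 1, 2, 3, 5], [], 22, true⟩) (lall (memL L) [2, 3, 1, 2, 3, 1, 2, 3, 5]) = true := by decide +kernel

theorem rot1_10 : T.rot 1 [2, 3, 1, 2, 3, 5, 1, 2, 3] (sel (ones 2058) ip1 10) = true := by decide +kernel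

theorem rot1_10r : band (Rule.ok (2 * 7) EX RL ⟨1 :: [2, 3, 1, 2, 3, 5, 1, 2, 3], [0, 2, 4], 22, true⟩) (lall (memL L) [2, 3, 1, 2, 3, 5, 1, 2, 3]) = true := by decide +kernel

theorem rot1_11 : T.rot 1 [2, 3, 5, 1, 2, 3, 1, 2, 3] (sel (ones 2058) ip1 11) = true := by decide +kernel

theorem rot1_11r : band (Rule.ok (2 * 7) EX RL ⟨1 :: [2, 3, 5, 1, 2, 3, 1, 2, 3], [8, 4, 2, 0], 22, true⟩) (lall (memL L) [2, 3, 5, 1, 2, 3, 1, 2, 3]) = true := by decide +kernel

theorem rot1_12 : T.rot 1 [3, 2, 1, 3, 2, 1, 5, 3, 2] (sel (ones 2058) ip1 12) = true := by decide +kernel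

theorem rot1_12r : band (Rule.ok (2 * 7) EX RL ⟨1 :: [3, 2, 1, 3, 2, 1, 5, 3, 2], [8, 4, 2], 22, false⟩) (lall (memL L) [3, 2, 1, 3, 2, 1, 5, 3, 2]) = true := by decide +kernel

theorem rot1_13 : T.rot 1 [3, 2, 1, 5, 3, 2, 1, 3, 2] (sel (ones 2058) ip1 13) = true := by decide +kernel

theorem rot1_13r : band (Rule.ok (2 * 7) EX RL ⟨1 :: [3, 2, 1, 5, 3, 2, 1, 3, 2], [0, 2, 4, 0], 22, false⟩) (lall (memL L) [3, 2, 1, 5, 3, 2, 1, 3, 2]) = true := by decide +kernel

theorem rot1_14 : T.rot 1 [5, 3, 2, 1, 3, 2, 1, 3, 2] (sel (ones 2058) ip1 14) = true := by decide +kernel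

theorem rot1_14r : band (Rule.ok (2 * 7) EX RL ⟨1 :: [5, 3, 2, 1, 3, 2, 1, 3, 2], [0], 22, false⟩) (lall (memL L) [5, 3, 2, 1, 3, 2, 1, 3, 2]) = true := by decide +kernel

theorem rot1_15 : T.rot 1 [3, 4, 3, 4, 3, 4, 3, 4, 3, 4] (sel (ones 2058) ip1 15) = true := by decide +kernel

theorem rot1_15r : band (Rule.ok (2 * 7) EX RL ⟨1 :: [3, 4, 3, 4, 3, 4, 3, 4, 3, 4], [0], 23, true⟩) (lall (memL L) [3, 4, 3, 4, 3, 4, 3, 4, 3, 4]) = true := by decide +kernel

theorem rot1_16 : T.rot 1 [4, 3, 4, 3, 4, 3, 4, 3, 4, 3] (sel (ones 2058) ip1 16) = true := by decide +kernel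

theorem rot1_16r : band (Rule.ok (2 * 7) EX RL ⟨1 :: [4, 3, 4, 3, 4, 3, 4, 3, 4, 3], [], 23, false⟩) (lall (memL L) [4, 3, 4, 3, 4, 3, 4, 3, 4, 3]) = true := by decide +kernel

theorem cov1 : T.cover 1 [(sel (ones 2058) ip1 1), (sel (ones 2058) ip1 2), (sel (ones 2058) ip1 3), (sel (ones 2058) ip1 4), (sel (ones 2058) ip1 5), (sel (ones 2058) ip1 6), (sel (ones 2058) ip1 7), (sel (ones 2058) ip1 8), (sel (ones 2058) ip1 9), (sel (ones 2058) ip1 10), (sel (ones 2058) ip1 11), (sel (ones 2058) ip1 12), (sel (ones 2058) ip1 13), (sel (ones 2058) ip1 14), (sel (ones 2058) ip1 15), (sel (ones 2058) ip1 16), 1] = true := by decide +kernel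

theorem tl1 : T.treeLt 12 1 = true := by decide +kernel

theorem rot2_1 : T.rot 2 [2] (sel (ones 2058) ip2 1) = true := by decide +kernel

theorem rot2_1r : band (Rule.ok (2 * 7) EX RL ⟨2 :: [2], [], 25, false⟩) (lall (memL L) [2]) = true := by decide +kernel

theorem rot2_2 : T.rot 2 [4, 2, 4] (sel (ones 2058) ip2 2) = true := by decide +kernel

theorem rot2_2r : band (Rule.ok (2 * 7) EX RL ⟨2 :: [4, 2, 4], [], 7, false⟩) (lall (memL L) [4, 2, 4]) = true := by decide +kernel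

theorem rot2_3 : T.rot 2 [5, 2, 5] (sel (ones 2058) ip2 3) = true := by decide +kernel

theorem rot2_3r : band (Rule.ok (2 * 7) EX RL ⟨2 :: [5, 2, 5], [], 8, false⟩) (lall (memL L) [5, 2, 5]) = true := by decide +kernel

theorem rot2_4 : T.rot 2 [6, 2, 6] (sel (ones 2058) ip2 4) = true := by decide +kernel

theorem rot2_4r : band (Rule.ok (2 * 7) EX RL ⟨2 :: [6, 2, 6], [], 9, false⟩) (lall (memL L) [6, 2, 6]) = true := by decide +kernel

theorem rot2_5 : T.rot 2 [7, 2, 7] (sel (ones 2058) ip2 5) = true := by decide +kernel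

theorem rot2_5r : band (Rule.ok (2 * 7) EX RL ⟨2 :: [7, 2, 7], [], 10, false⟩) (lall (memL L) [7, 2, 7]) = true := by decide +kernel

theorem rot2_6 : T.rot 2 [3, 2, 3, 2, 3] (sel (ones 2058) ip2 6) = true := by decide +kernel

theorem rot2_6r : band (Rule.ok (2 * 7) EX RL ⟨2 :: [3, 2, 3, 2, 3], [], 6, false⟩) (lall (memL L) [3, 2, 3, 2, 3]) = true := by decide +kernel

theorem rot2_7 : T.rot 2 [1, 2, 1, 2, 1, 2, 1] (sel (ones 2058) ip2 7) = true := by decide +kernel

theorem rot2_7r : band (Rule.ok (2 * 7) EX RL ⟨2 :: [1, 2, 1, 2, 1, 2, 1], [], 0, true⟩) (lall (memL L) [1, 2, 1, 2, 1, 2, 1]) = true := by decide +kernel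

theorem rot2_8 : T.rot 2 [3, 1, 2, 3, 1, 2, 3, 5, 1] (sel (ones 2058) ip2 8) = true := by decide +kernel

theorem rot2_8r : band (Rule.ok (2 * 7) EX RL ⟨2 :: [3, 1, 2, 3, 1, 2, 3, 5, 1], [0], 22, true⟩) (lall (memL L) [3, 1, 2, 3, 1, 2, 3, 5, 1]) = true := by decide +kernel

theorem rot2_9 : T.rot 2 [3, 1, 2, 3, 5, 1, 2, 3, 1] (sel (ones 2058) ip2 9) = true := by decide +kernel

theorem rot2_9r : band (Rule.ok (2 * 7) EX RL ⟨2 :: [3, 1, 2, 3, 5, 1, 2, 3, 1], [0, 2, 4, 0], 22, true⟩) (lall (memL L) [3, 1, 2, 3, 5, 1, 2, 3, 1]) = true := by decide +kernel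

theorem rot2_10 : T.rot 2 [3, 5, 1, 2, 3, 1, 2, 3, 1] (sel (ones 2058) ip2 10) = true := by decide +kernel

theorem rot2_10r : band (Rule.ok (2 * 7) EX RL ⟨2 :: [3, 5, 1, 2, 3, 1, 2, 3, 1], [8, 4, 2], 22, true⟩) (lall (memL L) [3, 5, 1, 2, 3, 1, 2, 3, 1]) = true := by decide +kernel

theorem rot2_11 : T.rot 2 [1, 3, 2, 1, 3, 2, 1, 5, 3] (sel (ones 2058) ip2 11) = true := by decide +kernel

theorem rot2_11r : band (Rule.ok (2 * 7) EX RL ⟨2 :: [1, 3, 2, 1, 3, 2, 1, 5, 3], [8, 4], 22, false⟩) (lall (memL L) [1, 3, 2, 1, 3, 2, 1, 5, 3]) = true := by decide +kernel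

theorem rot2_12 : T.rot 2 [1, 3, 2, 1, 5, 3, 2, 1, 3] (sel (ones 2058) ip2 12) = true := by decide +kernel

theorem rot2_12r : band (Rule.ok (2 * 7) EX RL ⟨2 :: [1, 3, 2, 1, 5, 3, 2, 1, 3], [0, 2, 4, 0, 2], 22, false⟩) (lall (memL L) [1, 3, 2, 1, 5, 3, 2, 1, 3]) = true := by decide +kernel

theorem rot2_13 : T.rot 2 [1, 5, 3, 2, 1, 3, 2, 1, 3] (sel (ones 2058) ip2 13) = true := by decide +kernel

theorem rot2_13r : band (Rule.ok (2 * 7) EX RL ⟨2 :: [1, 5, 3, 2, 1, 3, 2, 1, 3], [0, 2], 22, false⟩) (lall (memL L) [1, 5, 3, 2, 1, 3, 2, 1, 3]) = true := by decide +kernel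

theorem cov2 : T.cover 2 [(sel (ones 2058) ip2 1), (sel (ones 2058) ip2 2), (sel (ones 2058) ip2 3), (sel (ones 2058) ip2 4), (sel (ones 2058) ip2 5), (sel (ones 2058) ip2 6), (sel (ones 2058) ip2 7), (sel (ones 2058) ip2 8), (sel (ones 2058) ip2 9), (sel (ones 2058) ip2 10), (sel (ones 2058) ip2 11), (sel (ones 2058) ip2 12), (sel (ones 2058) ip2 13)] = true := by decide +kernel

theorem tl2 : T.treeLt 12 2 = true := by decide +kernel

theorem rot3_1 : T.rot 3 [3] (sel (ones 2058) ip3 1) = true := by decide +kernel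

theorem rot3_1r : band (Rule.ok (2 * 7) EX RL ⟨3 :: [3], [], 25, false⟩) (lall (memL L) [3]) = true := by decide +kernel

theorem rot3_2 : T.rot 3 [1, 3, 1] (sel (ones 2058) ip3 2) = true := by decide +kernel

theorem rot3_2r : band (Rule.ok (2 * 7) EX RL ⟨3 :: [1, 3, 1], [], 1, true⟩) (lall (memL L) [1, 3, 1]) = true := by decide +kernel

theorem rot3_3 : T.rot 3 [5, 3, 5] (sel (ones 2058) ip3 3) = true := by decide +kernel

theorem rot3_3r : band (Rule.ok (2 * 7) EX RL ⟨3 :: [5, 3, 5], [], 12, false⟩) (lall (memL L) [5, 3, 5]) = true := by decide +kernel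

theorem rot3_4 : T.rot 3 [6, 3, 6] (sel (ones 2058) ip3 4) = true := by decide +kernel

theorem rot3_4r : band (Rule.ok (2 * 7) EX RL ⟨3 :: [6, 3, 6], [], 13, false⟩) (lall (memL L) [6, 3, 6]) = true := by decide +kernel

theorem rot3_5 : T.rot 3 [7, 3, 7] (sel (ones 2058) ip3 5) = true := by decide +kernel

theorem rot3_5r : band (Rule.ok (2 * 7) EX RL ⟨3 :: [7, 3, 7], [], 14, false⟩) (lall (memL L) [7, 3, 7]) = true := by decide +kernel

theorem rot3_6 : T.rot 3 [2, 3, 2, 3, 2] (sel (ones 2058) ip3 6) = true := by decide +kernel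

theorem rot3_6r : band (Rule.ok (2 * 7) EX RL ⟨3 :: [2, 3, 2, 3, 2], [], 6, true⟩) (lall (memL L) [2, 3, 2, 3, 2]) = true := by decide +kernel

theorem rot3_7 : T.rot 3 [1, 2, 3, 1, 2, 3, 5, 1, 2] (sel (ones 2058) ip3 7) = true := by decide +kernel

theorem rot3_7r : band (Rule.ok (2 * 7) EX RL ⟨3 :: [1, 2, 3, 1, 2, 3, 5, 1, 2], [0, 2], 22, true⟩) (lall (memL L) [1, 2, 3, 1, 2, 3, 5, 1, 2]) = true := by decide +kernel

theorem rot3_8 : T.rot 3 [1, 2, 3, 5, 1, 2, 3, 1, 2] (sel (ones 2058) ip3 8) = true := by decide +kernel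

theorem rot3_8r : band (Rule.ok (2 * 7) EX RL ⟨3 :: [1, 2, 3, 5, 1, 2, 3, 1, 2], [8, 4, 2, 0, 4], 22, true⟩) (lall (memL L) [1, 2, 3, 5, 1, 2, 3, 1, 2]) = true := by decide +kernel

theorem rot3_9 : T.rot 3 [5, 1, 2, 3, 1, 2, 3, 1, 2] (sel (ones 2058) ip3 9) = true := by decide +kernel

theorem rot3_9r : band (Rule.ok (2 * 7) EX RL ⟨3 :: [5, 1, 2, 3, 1, 2, 3, 1, 2], [8, 4], 22, true⟩) (lall (memL L) [5, 1, 2, 3, 1, 2, 3, 1, 2]) = true := by decide +kernel

theorem rot3_10 : T.rot 3 [2, 1, 3, 2, 1, 3, 2, 1, 5] (sel (ones 2058) ip3 10) = true := by decide +kernel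

theorem rot3_10r : band (Rule.ok (2 * 7) EX RL ⟨3 :: [2, 1, 3, 2, 1, 3, 2, 1, 5], [8], 22, false⟩) (lall (memL L) [2, 1, 3, 2, 1, 3, 2, 1, 5]) = true := by decide +kernel

theorem rot3_11 : T.rot 3 [2, 1, 3, 2, 1, 5, 3, 2, 1] (sel (ones 2058) ip3 11) = true := by decide +kernel

theorem rot3_11r : band (Rule.ok (2 * 7) EX RL ⟨3 :: [2, 1, 3, 2, 1, 5, 3, 2, 1], [8, 4, 2, 0], 22, false⟩) (lall (memL L) [2, 1, 3, 2, 1, 5, 3, 2, 1]) = true := by decide +kernel

theorem rot3_12 : T.rot 3 [2, 1, 5, 3, 2, 1, 3, 2, 1] (sel (ones 2058) ip3 12) = true := by decide +kernel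

theorem rot3_12r : band (Rule.ok (2 * 7) EX RL ⟨3 :: [2, 1, 5, 3, 2, 1, 3, 2, 1], [0, 2, 4], 22, false⟩) (lall (memL L) [2, 1, 5, 3, 2, 1, 3, 2, 1]) = true := by decide +kernel

theorem rot3_13 : T.rot 3 [4, 3, 4, 3, 4, 3, 4, 3, 4, 1] (sel (ones 2058) ip3 13) = true := by decide +kernel

theorem rot3_13r : band (Rule.ok (2 * 7) EX RL ⟨3 :: [4, 3, 4, 3, 4, 3, 4, 3, 4, 1], [], 23, true⟩) (lall (memL L) [4, 3, 4, 3, 4, 3, 4, 3, 4, 1]) = true := by decide +kernel

theorem rot3_14 : T.rot 3 [4, 3, 4, 3, 4, 3, 4, 1, 3, 4] (sel (ones 2058) ip3 14) = true := by decide +kernel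

theorem rot3_14r : band (Rule.ok (2 * 7) EX RL ⟨3 :: [4, 3, 4, 3, 4, 3, 4, 1, 3, 4], [4, 6], 23, true⟩) (lall (memL L) [4, 3, 4, 3, 4, 3, 4, 1, 3, 4]) = true := by decide +kernel

theorem rot3_15 : T.rot 3 [4, 3, 4, 3, 4, 1, 3, 4, 3, 4] (sel (ones 2058) ip3 15) = true := by decide +kernel

theorem rot3_15r : band (Rule.ok (2 * 7) EX RL ⟨3 :: [4, 3, 4, 3, 4, 1, 3, 4, 3, 4], [4, 6, 4, 6], 23, true⟩) (lall (memL L) [4, 3, 4, 3, 4, 1, 3, 4, 3, 4]) = true := by decide +kernel

theorem rot3_16 : T.rot 3 [4, 3, 4, 1, 3, 4, 3, 4, 3, 4] (sel (ones 2058) ip3 16) = true := by decide +kernel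

theorem rot3_16r : band (Rule.ok (2 * 7) EX RL ⟨3 :: [4, 3, 4, 1, 3, 4, 3, 4, 3, 4], [0, 6, 4, 6, 4], 23, true⟩) (lall (memL L) [4, 3, 4, 1, 3, 4, 3, 4, 3, 4]) = true := by decide +kernel

theorem rot3_17 : T.rot 3 [4, 1, 3, 4, 3, 4, 3, 4, 3, 4] (sel (ones 2058) ip3 17) = true := by decide +kernel

theorem rot3_17r : band (Rule.ok (2 * 7) EX RL ⟨3 :: [4, 1, 3, 4, 3, 4, 3, 4, 3, 4], [0, 6, 4], 23, true⟩) (lall (memL L) [4, 1, 3, 4, 3, 4, 3, 4, 3, 4]) = true := by decide +kernel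

theorem rot3_18 : T.rot 3 [4, 3, 4, 3, 4, 3, 4, 3, 1, 4] (sel (ones 2058) ip3 18) = true := by decide +kernel

theorem rot3_18r : band (Rule.ok (2 * 7) EX RL ⟨3 :: [4, 3, 4, 3, 4, 3, 4, 3, 1, 4], [0, 6], 23, false⟩) (lall (memL L) [4, 3, 4, 3, 4, 3, 4, 3, 1, 4]) = true := by decide +kernel

theorem rot3_19 : T.rot 3 [4, 3, 4, 3, 4, 3, 1, 4, 3, 4] (sel (ones 2058) ip3 19) = true := by decide +kernel

theorem rot3_19r : band (Rule.ok (2 * 7) EX RL ⟨3 :: [4, 3, 4, 3, 4, 3, 1, 4, 3, 4], [0, 6, 4, 6], 23, false⟩) (lall (memL L) [4, 3, 4, 3, 4, 3, 1, 4, 3, 4]) = true := by decide +kernel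

theorem rot3_20 : T.rot 3 [4, 3, 4, 3, 1, 4, 3, 4, 3, 4] (sel (ones 2058) ip3 20) = true := by decide +kernel

theorem rot3_20r : band (Rule.ok (2 * 7) EX RL ⟨3 :: [4, 3, 4, 3, 1, 4, 3, 4, 3, 4], [4, 6, 4, 6, 4], 23, false⟩) (lall (memL L) [4, 3, 4, 3, 1, 4, 3, 4, 3, 4]) = true := by decide +kernel

theorem rot3_21 : T.rot 3 [1, 4, 3, 4, 3, 4, 3, 4, 3, 4] (sel (ones 2058) ip3 21) = true := by decide +kernel

theorem rot3_21r : band (Rule.ok (2 * 7) EX RL ⟨3 :: [1, 4, 3, 4, 3, 4, 3, 4, 3, 4], [4], 23, false⟩) (lall (memL L) [1, 4, 3, 4, 3, 4, 3, 4, 3, 4]) = true := by decide +kernel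

theorem rot3_22 : T.rot 3 [7, 6, 4, 3, 7, 6, 4, 3, 7, 6, 4, 3, 7, 6, 4] (sel (ones 2058) ip3 22) = true := by decide +kernel

theorem rot3_22r : band (Rule.ok (2 * 7) EX RL ⟨3 :: [7, 6, 4, 3, 7, 6, 4, 3, 7, 6, 4, 3, 7, 6, 4], [4], 24, true⟩) (lall (memL L) [7, 6, 4, 3, 7, 6, 4, 3, 7, 6, 4, 3, 7, 6, 4]) = true := by decide +kernel

theorem rot3_23 : T.rot 3 [4, 6, 7, 3, 4, 6, 7, 3, 4, 6, 7, 3, 4, 6, 7] (sel (ones 2058) ip3 23) = true := by decide +kernel

theorem rot3_23r : band (Rule.ok (2 * 7) EX RL ⟨3 :: [4, 6, 7, 3, 4, 6, 7, 3, 4, 6, 7, 3, 4, 6, 7], [], 24, false⟩) (lall (memL L) [4, 6, 7, 3, 4, 6, 7, 3, 4, 6, 7, 3, 4, 6, 7]) = true := by decide +kernel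

theorem cov3 : T.cover 3 [(sel (ones 2058) ip3 1), (sel (ones 2058) ip3 2), (sel (ones 2058) ip3 3), (sel (ones 2058) ip3 4), (sel (ones 2058) ip3 5), (sel (ones 2058) ip3 6), (sel (ones 2058) ip3 7), (sel (ones 2058) ip3 8), (sel (ones 2058) ip3 9), (sel (ones 2058) ip3 10), (sel (ones 2058) ip3 11), (sel (ones 2058) ip3 12), (sel (ones 2058) ip3 13), (sel (ones 2058) ip3 14), (sel (ones 2058) ip3 15), (sel (ones 2058) ip3 16), (sel (ones 2058) ip3 17), (sel (ones 2058) ip3 18), (sel (ones 2058) ip3 19), (sel (ones 2058) ip3 20), (sel (ones 2058) ip3 21), (sel (ones 2058) ip3 22), (sel (ones 2058) ip3 23), 1] = true := by decide +kernel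

theorem tl3 : T.treeLt 12 3 = true := by decide +kernel

theorem rot4_1 : T.rot 4 [4] (sel (ones 2058) ip4 1) = true := by decide +kernel

theorem rot4_1r : band (Rule.ok (2 * 7) EX RL ⟨4 :: [4], [], 25, false⟩) (lall (memL L) [4]) = true := by decide +kernel

theorem rot4_2 : T.rot 4 [1, 4, 1] (sel (ones 2058) ip4 2) = true := by decide +kernel

theorem rot4_2r : band (Rule.ok (2 * 7) EX RL ⟨4 :: [1, 4, 1], [], 2, true⟩) (lall (memL L) [1, 4, 1]) = true := by decide +kernel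

theorem rot4_3 : T.rot 4 [2, 4, 2] (sel (ones 2058) ip4 3) = true := by decide +kernel

theorem rot4_3r : band (Rule.ok (2 * 7) EX RL ⟨4 :: [2, 4, 2], [], 7, true⟩) (lall (memL L) [2, 4, 2]) = true := by decide +kernel

theorem rot4_4 : T.rot 4 [3, 2, 11, 5] (sel (ones 2058) ip4 4) = true := by decide +kernel

theorem rot4_4r : band (Rule.ok (2 * 7) EX RL ⟨4 :: [3, 2, 11, 5], [], 25, false⟩) (lall (memL L) [3, 2, 11, 5]) = true := by decide +kernel

theorem rot4_5 : T.rot 4 [5, 10, 2, 3] (sel (ones 2058) ip4 5) = true := by decide +kernel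

theorem rot4_5r : band (Rule.ok (2 * 7) EX RL ⟨4 :: [5, 10, 2, 3], [], 25, false⟩) (lall (memL L) [5, 10, 2, 3]) = true := by decide +kernel

theorem rot4_6 : T.rot 4 [5, 4, 5, 4, 5] (sel (ones 2058) ip4 6) = true := by decide +kernel

theorem rot4_6r : band (Rule.ok (2 * 7) EX RL ⟨4 :: [5, 4, 5, 4, 5], [], 15, false⟩) (lall (memL L) [5, 4, 5, 4, 5]) = true := by decide +kernel

theorem rot4_7 : T.rot 4 [6, 4, 6, 4, 6] (sel (ones 2058) ip4 7) = true := by decide +kernel

theorem rot4_7r : band (Rule.ok (2 * 7) EX RL ⟨4 :: [6, 4, 6, 4, 6], [], 16, false⟩) (lall (memL L) [6, 4, 6, 4, 6]) = true := by decide +kernel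

theorem rot4_8 : T.rot 4 [7, 4, 7, 4, 7] (sel (ones 2058) ip4 8) = true := by decide +kernel

theorem rot4_8r : band (Rule.ok (2 * 7) EX RL ⟨4 :: [7, 4, 7, 4, 7], [], 17, false⟩) (lall (memL L) [7, 4, 7, 4, 7]) = true := by decide +kernel

theorem rot4_9 : T.rot 4 [3, 4, 3, 4, 3, 4, 3, 4, 1, 3] (sel (ones 2058) ip4 9) = true := by decide +kernel

theorem rot4_9r : band (Rule.ok (2 * 7) EX RL ⟨4 :: [3, 4, 3, 4, 3, 4, 3, 4, 1, 3], [4], 23, true⟩) (lall (memL L) [3, 4, 3, 4, 3, 4, 3, 4, 1, 3]) = true := by decide +kernel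

theorem rot4_10 : T.rot 4 [3, 4, 3, 4, 3, 4, 1, 3, 4, 3] (sel (ones 2058) ip4 10) = true := by decide +kernel

theorem rot4_10r : band (Rule.ok (2 * 7) EX RL ⟨4 :: [3, 4, 3, 4, 3, 4, 1, 3, 4, 3], [4, 6, 4], 23, true⟩) (lall (memL L) [3, 4, 3, 4, 3, 4, 1, 3, 4, 3]) = true := by decide +kernel

theorem rot4_11 : T.rot 4 [3, 4, 3, 4, 1, 3, 4, 3, 4, 3] (sel (ones 2058) ip4 11) = true := by decide +kernel

theorem rot4_11r : band (Rule.ok (2 * 7) EX RL ⟨4 :: [3, 4, 3, 4, 1, 3, 4, 3, 4, 3], [4, 6, 4, 6, 4], 23, true⟩) (lall (memL L) [3, 4, 3, 4, 1, 3, 4, 3, 4, 3]) = true := by decide +kernel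

theorem rot4_12 : T.rot 4 [3, 4, 1, 3, 4, 3, 4, 3, 4, 3] (sel (ones 2058) ip4 12) = true := by decide +kernel

theorem rot4_12r : band (Rule.ok (2 * 7) EX RL ⟨4 :: [3, 4, 1, 3, 4, 3, 4, 3, 4, 3], [0, 6, 4, 6], 23, true⟩) (lall (memL L) [3, 4, 1, 3, 4, 3, 4, 3, 4, 3]) = true := by decide +kernel

theorem rot4_13 : T.rot 4 [1, 3, 4, 3, 4, 3, 4, 3, 4, 3] (sel (ones 2058) ip4 13) = true := by decide +kernel

theorem rot4_13r : band (Rule.ok (2 * 7) EX RL ⟨4 :: [1, 3, 4, 3, 4, 3, 4, 3, 4, 3], [0, 6], 23, true⟩) (lall (memL L) [1, 3, 4, 3, 4, 3, 4, 3, 4, 3]) = true := by decide +kernel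

theorem rot4_14 : T.rot 4 [3, 4, 3, 4, 3, 4, 3, 4, 3, 1] (sel (ones 2058) ip4 14) = true := by decide +kernel

theorem rot4_14r : band (Rule.ok (2 * 7) EX RL ⟨4 :: [3, 4, 3, 4, 3, 4, 3, 4, 3, 1], [0], 23, false⟩) (lall (memL L) [3, 4, 3, 4, 3, 4, 3, 4, 3, 1]) = true := by decide +kernel

theorem rot4_15 : T.rot 4 [3, 4, 3, 4, 3, 4, 3, 1, 4, 3] (sel (ones 2058) ip4 15) = true := by decide +kernel

theorem rot4_15r : band (Rule.ok (2 * 7) EX RL ⟨4 :: [3, 4, 3, 4, 3, 4, 3, 1, 4, 3], [0, 6, 4], 23, false⟩) (lall (memL L) [3, 4, 3, 4, 3, 4, 3, 1, 4, 3]) = true := by decide +kernel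

theorem rot4_16 : T.rot 4 [3, 4, 3, 4, 3, 1, 4, 3, 4, 3] (sel (ones 2058) ip4 16) = true := by decide +kernel

theorem rot4_16r : band (Rule.ok (2 * 7) EX RL ⟨4 :: [3, 4, 3, 4, 3, 1, 4, 3, 4, 3], [0, 6, 4, 6, 4], 23, false⟩) (lall (memL L) [3, 4, 3, 4, 3, 1, 4, 3, 4, 3]) = true := by decide +kernel

theorem rot4_17 : T.rot 4 [3, 4, 3, 1, 4, 3, 4, 3, 4, 3] (sel (ones 2058) ip4 17) = true := by decide +kernel

theorem rot4_17r : band (Rule.ok (2 * 7) EX RL ⟨4 :: [3, 4, 3, 1, 4, 3, 4, 3, 4, 3], [4, 6, 4, 6], 23, false⟩) (lall (memL L) [3, 4, 3, 1, 4, 3, 4, 3, 4, 3]) = true := by decide +kernel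

theorem rot4_18 : T.rot 4 [3, 1, 4, 3, 4, 3, 4, 3, 4, 3] (sel (ones 2058) ip4 18) = true := by decide +kernel

theorem rot4_18r : band (Rule.ok (2 * 7) EX RL ⟨4 :: [3, 1, 4, 3, 4, 3, 4, 3, 4, 3], [4, 6], 23, false⟩) (lall (memL L) [3, 1, 4, 3, 4, 3, 4, 3, 4, 3]) = true := by decide +kernel

theorem rot4_19 : T.rot 4 [3, 7, 6, 4, 3, 7, 6, 4, 3, 7, 6, 4, 3, 7, 6] (sel (ones 2058) ip4 19) = true := by decide +kernel

theorem rot4_19r : band (Rule.ok (2 * 7) EX RL ⟨4 :: [3, 7, 6, 4, 3, 7, 6, 4, 3, 7, 6, 4, 3, 7, 6], [4, 6], 24, true⟩) (lall (memL L) [3, 7, 6, 4, 3, 7, 6, 4, 3, 7, 6, 4, 3, 7, 6]) = true := by decide +kernel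

theorem rot4_20 : T.rot 4 [6, 7, 3, 4, 6, 7, 3, 4, 6, 7, 3, 4, 6, 7, 3] (sel (ones 2058) ip4 20) = true := by decide +kernel

theorem rot4_20r : band (Rule.ok (2 * 7) EX RL ⟨4 :: [6, 7, 3, 4, 6, 7, 3, 4, 6, 7, 3, 4, 6, 7, 3], [4], 24, false⟩) (lall (memL L) [6, 7, 3, 4, 6, 7, 3, 4, 6, 7, 3, 4, 6, 7, 3]) = true := by decide +kernel

theorem rot4_21 : T.rot 4 [3, 4, 3, 4, 3, 4, 3, 4, 3, 4, 3, 4, 3, 4, 3, 4, 3, 4, 3] (sel (ones 2058) ip4 21) = true := by decide +kernel

theorem rot4_21r : band (Rule.ok (2 * 7) EX RL ⟨4 :: [3, 4, 3, 4, 3, 4, 3, 4, 3, 4, 3, 4, 3, 4, 3, 4, 3, 4, 3], [], 11, true⟩) (lall (memL L) [3, 4, 3, 4, 3, 4, 3, 4, 3, 4, 3, 4, 3, 4, 3, 4, 3, 4, 3]) = true := by decide +kernel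

theorem cov4 : T.cover 4 [(sel (ones 2058) ip4 1), (sel (ones 2058) ip4 2), (sel (ones 2058) ip4 3), (sel (ones 2058) ip4 4), (sel (ones 2058) ip4 5), (sel (ones 2058) ip4 6), (sel (ones 2058) ip4 7), (sel (ones 2058) ip4 8), (sel (ones 2058) ip4 9), (sel (ones 2058) ip4 10), (sel (ones 2058) ip4 11), (sel (ones 2058) ip4 12), (sel (ones 2058) ip4 13), (sel (ones 2058) ip4 14), (sel (ones 2058) ip4 15), (sel (ones 2058) ip4 16), (sel (ones 2058) ip4 17), (sel (ones 2058) ip4 18), (sel (ones 2058) ip4 19), (sel (ones 2058) ip4 20), (sel (ones 2058) ip4 21), 1] = true := by decide +kernel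

theorem tl4 : T.treeLt 12 4 = true := by decide +kernel

theorem rot5_1 : T.rot 5 [5] (sel (ones 2058) ip5 1) = true := by decide +kernel

theorem rot5_1r : band (Rule.ok (2 * 7) EX RL ⟨5 :: [5], [], 25, false⟩) (lall (memL L) [5]) = true := by decide +kernel

theorem rot5_2 : T.rot 5 [1, 5, 1] (sel (ones 2058) ip5 2) = true := by decide +kernel

theorem rot5_2r : band (Rule.ok (2 * 7) EX RL ⟨5 :: [1, 5, 1], [], 3, true⟩) (lall (memL L) [1, 5, 1]) = true := by decide +kernel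

theorem rot5_3 : T.rot 5 [2, 5, 2] (sel (ones 2058) ip5 3) = true := by decide +kernel

theorem rot5_3r : band (Rule.ok (2 * 7) EX RL ⟨5 :: [2, 5, 2], [], 8, true⟩) (lall (memL L) [2, 5, 2]) = true := by decide +kernel

theorem rot5_4 : T.rot 5 [3, 5, 3] (sel (ones 2058) ip5 4) = true := by decide +kernel

theorem rot5_4r : band (Rule.ok (2 * 7) EX RL ⟨5 :: [3, 5, 3], [], 12, true⟩) (lall (memL L) [3, 5, 3]) = true := by decide +kernel

theorem rot5_5 : T.rot 5 [6, 5, 6] (sel (ones 2058) ip5 5) = true := by decide +kernel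

theorem rot5_5r : band (Rule.ok (2 * 7) EX RL ⟨5 :: [6, 5, 6], [], 18, false⟩) (lall (memL L) [6, 5, 6]) = true := by decide +kernel

theorem rot5_6 : T.rot 5 [7, 5, 7] (sel (ones 2058) ip5 6) = true := by decide +kernel

theorem rot5_6r : band (Rule.ok (2 * 7) EX RL ⟨5 :: [7, 5, 7], [], 19, false⟩) (lall (memL L) [7, 5, 7]) = true := by decide +kernel

theorem rot5_7 : T.rot 5 [6, 7, 6, 7] (sel (ones 2058) ip5 7) = true := by decide +kernel

theorem rot5_7r : band (Rule.ok (2 * 7) EX RL ⟨5 :: [6, 7, 6, 7], [8], 21, true⟩) (lall (memL L) [6, 7, 6, 7]) = true := by decide +kernel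

theorem rot5_8 : T.rot 5 [7, 6, 7, 6] (sel (ones 2058) ip5 8) = true := by decide +kernel

theorem rot5_8r : band (Rule.ok (2 * 7) EX RL ⟨5 :: [7, 6, 7, 6], [], 21, false⟩) (lall (memL L) [7, 6, 7, 6]) = true := by decide +kernel

theorem rot5_9 : T.rot 5 [4, 5, 4, 5, 4] (sel (ones 2058) ip5 9) = true := by decide +kernel

theorem rot5_9r : band (Rule.ok (2 * 7) EX RL ⟨5 :: [4, 5, 4, 5, 4], [], 15, true⟩) (lall (memL L) [4, 5, 4, 5, 4]) = true := by decide +kernel

theorem rot5_10 : T.rot 5 [1, 2, 3, 1, 2, 3, 1, 2, 3] (sel (ones 2058) ip5 10) = true := by decide +kernel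

theorem rot5_10r : band (Rule.ok (2 * 7) EX RL ⟨5 :: [1, 2, 3, 1, 2, 3, 1, 2, 3], [8], 22, true⟩) (lall (memL L) [1, 2, 3, 1, 2, 3, 1, 2, 3]) = true := by decide +kernel

theorem rot5_11 : T.rot 5 [3, 2, 1, 3, 2, 1, 3, 2, 1] (sel (ones 2058) ip5 11) = true := by decide +kernel

theorem rot5_11r : band (Rule.ok (2 * 7) EX RL ⟨5 :: [3, 2, 1, 3, 2, 1, 3, 2, 1], [], 22, false⟩) (lall (memL L) [3, 2, 1, 3, 2, 1, 3, 2, 1]) = true := by decide +kernel

theorem cov5 : T.cover 5 [(sel (ones 2058) ip5 1), (sel (ones 2058) ip5 2), (sel (ones 2058) ip5 3), (sel (ones 2058) ip5 4), (sel (ones 2058) ip5 5), (sel (ones 2058) ip5 6), (sel (ones 2058) ip5 7), (sel (ones 2058) ip5 8), (sel (ones 2058) ip5 9), (sel (ones 2058) ip5 10), (sel (ones 2058) ip5 11), 1] = true := by decide +kernel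

theorem tl5 : T.treeLt 12 5 = true := by decide +kernel

theorem rot6_1 : T.rot 6 [6] (sel (ones 2058) ip6 1) = true := by decide +kernel

theorem rot6_1r : band (Rule.ok (2 * 7) EX RL ⟨6 :: [6], [], 25, false⟩) (lall (memL L) [6]) = true := by decide +kernel

theorem rot6_2 : T.rot 6 [1, 6, 1] (sel (ones 2058) ip6 2) = true := by decide +kernel

theorem rot6_2r : band (Rule.ok (2 * 7) EX RL ⟨6 :: [1, 6, 1], [], 4, true⟩) (lall (memL L) [1, 6, 1]) = true := by decide +kernel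

theorem rot6_3 : T.rot 6 [2, 6, 2] (sel (ones 2058) ip6 3) = true := by decide +kernel

theorem rot6_3r : band (Rule.ok (2 * 7) EX RL ⟨6 :: [2, 6, 2], [], 9, true⟩) (lall (memL L) [2, 6, 2]) = true := by decide +kernel

theorem rot6_4 : T.rot 6 [3, 6, 3] (sel (ones 2058) ip6 4) = true := by decide +kernel

theorem rot6_4r : band (Rule.ok (2 * 7) EX RL ⟨6 :: [3, 6, 3], [], 13, true⟩) (lall (memL L) [3, 6, 3]) = true := by decide +kernel

theorem rot6_5 : T.rot 6 [5, 6, 5] (sel (ones 2058) ip6 5) = true := by decide +kernel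

theorem rot6_5r : band (Rule.ok (2 * 7) EX RL ⟨6 :: [5, 6, 5], [], 18, true⟩) (lall (memL L) [5, 6, 5]) = true := by decide +kernel

theorem rot6_6 : T.rot 6 [7, 6, 7, 5] (sel (ones 2058) ip6 6) = true := by decide +kernel

theorem rot6_6r : band (Rule.ok (2 * 7) EX RL ⟨6 :: [7, 6, 7, 5], [], 21, true⟩) (lall (memL L) [7, 6, 7, 5]) = true := by decide +kernel

theorem rot6_7 : T.rot 6 [7, 5, 6, 7] (sel (ones 2058) ip6 7) = true := by decide +kernel

theorem rot6_7r : band (Rule.ok (2 * 7) EX RL ⟨6 :: [7, 5, 6, 7], [10, 12], 21, true⟩) (lall (memL L) [7, 5, 6, 7]) = true := by decide +kernel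

theorem rot6_8 : T.rot 6 [7, 6, 5, 7] (sel (ones 2058) ip6 8) = true := by decide +kernel

theorem rot6_8r : band (Rule.ok (2 * 7) EX RL ⟨6 :: [7, 6, 5, 7], [8, 12], 21, false⟩) (lall (memL L) [7, 6, 5, 7]) = true := by decide +kernel

theorem rot6_9 : T.rot 6 [5, 7, 6, 7] (sel (ones 2058) ip6 9) = true := by decide +kernel

theorem rot6_9r : band (Rule.ok (2 * 7) EX RL ⟨6 :: [5, 7, 6, 7], [10], 21, false⟩) (lall (memL L) [5, 7, 6, 7]) = true := by decide +kernel

theorem rot6_10 : T.rot 6 [4, 6, 4, 6, 4] (sel (ones 2058) ip6 10) = true := by decide +kernel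

theorem rot6_10r : band (Rule.ok (2 * 7) EX RL ⟨6 :: [4, 6, 4, 6, 4], [], 16, true⟩) (lall (memL L) [4, 6, 4, 6, 4]) = true := by decide +kernel

theorem rot6_11 : T.rot 6 [4, 3, 7, 6, 4, 3, 7, 6, 4, 3, 7, 6, 4, 3, 7] (sel (ones 2058) ip6 11) = true := by decide +kernel

theorem rot6_11r : band (Rule.ok (2 * 7) EX RL ⟨6 :: [4, 3, 7, 6, 4, 3, 7, 6, 4, 3, 7, 6, 4, 3, 7], [12], 24, true⟩) (lall (memL L) [4, 3, 7, 6, 4, 3, 7, 6, 4, 3, 7, 6, 4, 3, 7]) = true := by decide +kernel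

theorem rot6_12 : T.rot 6 [7, 3, 4, 6, 7, 3, 4, 6, 7, 3, 4, 6, 7, 3, 4] (sel (ones 2058) ip6 12) = true := by decide +kernel

theorem rot6_12r : band (Rule.ok (2 * 7) EX RL ⟨6 :: [7, 3, 4, 6, 7, 3, 4, 6, 7, 3, 4, 6, 7, 3, 4], [12, 10], 24, false⟩) (lall (memL L) [7, 3, 4, 6, 7, 3, 4, 6, 7, 3, 4, 6, 7, 3, 4]) = true := by decide +kernel

theorem cov6 : T.cover 6 [(sel (ones 2058) ip6 1), (sel (ones 2058) ip6 2), (sel (ones 2058) ip6 3), (sel (ones 2058) ip6 4), (sel (ones 2058) ip6 5), (sel (ones 2058) ip6 6), (sel (ones 2058) ip6 7), (sel (ones 2058) ip6 8), (sel (ones 2058) ip6 9), (sel (ones 2058) ip6 10), (sel (ones 2058) ip6 11), (sel (ones 2058) ip6 12), 1] = true := by decide +kernel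

theorem tl6 : T.treeLt 12 6 = true := by decide +kernel

theorem rot7_1 : T.rot 7 [7] (sel (ones 2058) ip7 1) = true := by decide +kernel

theorem rot7_1r : band (Rule.ok (2 * 7) EX RL ⟨7 :: [7], [], 25, false⟩) (lall (memL L) [7]) = true := by decide +kernel

theorem rot7_2 : T.rot 7 [1, 7, 1] (sel (ones 2058) ip7 2) = true := by decide +kernel

theorem rot7_2r : band (Rule.ok (2 * 7) EX RL ⟨7 :: [1, 7, 1], [], 5, true⟩) (lall (memL L) [1, 7, 1]) = true := by decide +kernel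

theorem rot7_3 : T.rot 7 [2, 7, 2] (sel (ones 2058) ip7 3) = true := by decide +kernel

theorem rot7_3r : band (Rule.ok (2 * 7) EX RL ⟨7 :: [2, 7, 2], [], 10, true⟩) (lall (memL L) [2, 7, 2]) = true := by decide +kernel

theorem rot7_4 : T.rot 7 [3, 7, 3] (sel (ones 2058) ip7 4) = true := by decide +kernel

theorem rot7_4r : band (Rule.ok (2 * 7) EX RL ⟨7 :: [3, 7, 3], [], 14, true⟩) (lall (memL L) [3, 7, 3]) = true := by decide +kernel

theorem rot7_5 : T.rot 7 [5, 7, 5] (sel (ones 2058) ip7 5) = true := by decide +kernel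

theorem rot7_5r : band (Rule.ok (2 * 7) EX RL ⟨7 :: [5, 7, 5], [], 19, true⟩) (lall (memL L) [5, 7, 5]) = true := by decide +kernel

theorem rot7_6 : T.rot 7 [6, 7, 5, 6] (sel (ones 2058) ip7 6) = true := by decide +kernel

theorem rot7_6r : band (Rule.ok (2 * 7) EX RL ⟨7 :: [6, 7, 5, 6], [10], 21, true⟩) (lall (memL L) [6, 7, 5, 6]) = true := by decide +kernel

theorem rot7_7 : T.rot 7 [5, 6, 7, 6] (sel (ones 2058) ip7 7) = true := by decide +kernel

theorem rot7_7r : band (Rule.ok (2 * 7) EX RL ⟨7 :: [5, 6, 7, 6], [8, 12], 21, true⟩) (lall (memL L) [5, 6, 7, 6]) = true := by decide +kernel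

theorem rot7_8 : T.rot 7 [6, 7, 6, 5] (sel (ones 2058) ip7 8) = true := by decide +kernel

theorem rot7_8r : band (Rule.ok (2 * 7) EX RL ⟨7 :: [6, 7, 6, 5], [8], 21, false⟩) (lall (memL L) [6, 7, 6, 5]) = true := by decide +kernel

theorem rot7_9 : T.rot 7 [6, 5, 7, 6] (sel (ones 2058) ip7 9) = true := by decide +kernel

theorem rot7_9r : band (Rule.ok (2 * 7) EX RL ⟨7 :: [6, 5, 7, 6], [10, 12], 21, false⟩) (lall (memL L) [6, 5, 7, 6]) = true := by decide +kernel

theorem rot7_10 : T.rot 7 [4, 7, 4, 7, 4] (sel (ones 2058) ip7 10) = true := by decide +kernel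

theorem rot7_10r : band (Rule.ok (2 * 7) EX RL ⟨7 :: [4, 7, 4, 7, 4], [], 17, true⟩) (lall (memL L) [4, 7, 4, 7, 4]) = true := by decide +kernel

theorem rot7_11 : T.rot 7 [6, 7, 6, 7, 6, 7, 6] (sel (ones 2058) ip7 11) = true := by decide +kernel

theorem rot7_11r : band (Rule.ok (2 * 7) EX RL ⟨7 :: [6, 7, 6, 7, 6, 7, 6], [], 20, true⟩) (lall (memL L) [6, 7, 6, 7, 6, 7, 6]) = true := by decide +kernel

theorem rot7_12 : T.rot 7 [6, 4, 3, 7, 6, 4, 3, 7, 6, 4, 3, 7, 6, 4, 3] (sel (ones 2058) ip7 12) = true := by decide +kernel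

theorem rot7_12r : band (Rule.ok (2 * 7) EX RL ⟨7 :: [6, 4, 3, 7, 6, 4, 3, 7, 6, 4, 3, 7, 6, 4, 3], [], 24, true⟩) (lall (memL L) [6, 4, 3, 7, 6, 4, 3, 7, 6, 4, 3, 7, 6, 4, 3]) = true := by decide +kernel

theorem rot7_13 : T.rot 7 [3, 4, 6, 7, 3, 4, 6, 7, 3, 4, 6, 7, 3, 4, 6] (sel (ones 2058) ip7 13) = true := by decide +kernel

theorem rot7_13r : band (Rule.ok (2 * 7) EX RL ⟨7 :: [3, 4, 6, 7, 3, 4, 6, 7, 3, 4, 6, 7, 3, 4, 6], [12], 24, false⟩) (lall (memL L) [3, 4, 6, 7, 3, 4, 6, 7, 3, 4, 6, 7, 3, 4, 6]) = true := by decide +kernel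

theorem ep0a : T.treePath [2, 3, 4] (Nat.shiftLeft 1 6) 1 = true := by decide +kernel

theorem ep0b : T.treePath [2, 3, 4] (Nat.shiftLeft 1 6) 1 = true := by decide +kernel

theorem ep0c : band (lall (fun z => Nat.ble z 255) ([2, 3, 4] ++ 7 :: [4, 3, 2])) (concl F IV 1364 0x10000280002c0154c0000a0000200000007 (encA ([2, 3, 4] ++ 7 :: [4, 3, 2]) 0)) = true := by decide +kernel

theorem ep0d : band (Rule.ok (2 * 7) EX [] ⟨lapp [2, 3, 4] [4, 3, 2], [], 0, false⟩) (band (lall (memL L) [2, 3, 4]) (lall (memL L) [2, 3, 4])) = true := by decide +kernel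

theorem cov7 : T.cover 7 [(sel (ones 2058) ip7 1), (sel (ones 2058) ip7 2), (sel (ones 2058) ip7 3), (sel (ones 2058) ip7 4), (sel (ones 2058) ip7 5), (sel (ones 2058) ip7 6), (sel (ones 2058) ip7 7), (sel (ones 2058) ip7 8), (sel (ones 2058) ip7 9), (sel (ones 2058) ip7 10), (sel (ones 2058) ip7 11), (sel (ones 2058) ip7 12), (sel (ones 2058) ip7 13), (Nat.shiftLeft 1 6)] = true := by decide +kernel

theorem tl7 : T.treeLt 12 7 = true := by decide +kernel

theorem cov8 : T.cover 8 [1] = true := by decide +kernel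

theorem tl8 : Nat.beq (T.let 8).tt 0 = true := by decide +kernel

theorem rot9_1 : T.rot 9 [8] (sel (ones 2058) ip9 1) = true := by decide +kernel

theorem rot9_1r : band (Rule.ok (2 * 7) EX RL ⟨9 :: [8], [], 25, false⟩) (lall (memL L) [8]) = true := by decide +kernel

theorem cov9 : T.cover 9 [(sel (ones 2058) ip9 1)] = true := by decide +kernel

theorem tl9 : Nat.beq (T.let 9).tt 0 = true := by decide +kernel

theorem rot10_1 : T.rot 10 [2, 3, 4, 5] (sel (ones 2058) ip10 1) = true := by decide +kernel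

theorem rot10_1r : band (Rule.ok (2 * 7) EX RL ⟨10 :: [2, 3, 4, 5], [], 25, false⟩) (lall (memL L) [2, 3, 4, 5]) = true := by decide +kernel

theorem rot10_2 : T.rot 10 [10, 10, 13, 10, 10, 10, 10] (sel (ones 2058) ip10 2) = true := by decide +kernel

theorem rot10_2r : band (Rule.ok (2 * 7) EX RL ⟨10 :: [10, 10, 13, 10, 10, 10, 10], [], 25, false⟩) (lall (memL L) [10, 10, 13, 10, 10, 10, 10]) = true := by decide +kernel

theorem cov10 : T.cover 10 [(sel (ones 2058) ip10 1), (sel (ones 2058) ip10 2)] = true := by decide +kernel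

theorem tl10 : Nat.beq (T.let 10).tt 0 = true := by decide +kernel

theorem rot11_1 : T.rot 11 [5, 4, 3, 2] (sel (ones 2058) ip11 1) = true := by decide +kernel

theorem rot11_1r : band (Rule.ok (2 * 7) EX RL ⟨11 :: [5, 4, 3, 2], [], 25, false⟩) (lall (memL L) [5, 4, 3, 2]) = true := by decide +kernel

theorem rot11_2 : T.rot 11 [11, 11, 11, 11, 12, 11, 11] (sel (ones 2058) ip11 2) = true := by decide +kernel

theorem rot11_2r : band (Rule.ok (2 * 7) EX RL ⟨11 :: [11, 11, 11, 11, 12, 11, 11], [], 25, false⟩) (lall (memL L) [11, 11, 11, 11, 12, 11, 11]) = true := by decide +kernel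

theorem cov11 : T.cover 11 [(sel (ones 2058) ip11 1), (sel (ones 2058) ip11 2)] = true := by decide +kernel

theorem tl11 : Nat.beq (T.let 11).tt 0 = true := by decide +kernel

theorem cov12 : T.cover 12 [1] = true := by decide +kernel

theorem tl12 : Nat.beq (T.let 12).tt 0 = true := by decide +kernel

theorem rot13_1 : T.rot 13 [12] (sel (ones 2058) ip13 1) = true := by decide +kernel

theorem rot13_1r : band (Rule.ok (2 * 7) EX RL ⟨13 :: [12], [], 25, false⟩) (lall (memL L) [12]) = true := by decide +kernel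

theorem cov13 : T.cover 13 [(sel (ones 2058) ip13 1)] = true := by decide +kernel

theorem tl13 : Nat.beq (T.let 13).tt 0 = true := by decide +kernel

end Cfsg.Agent.Spor.He2058
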