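import Cfsg.Agent.Spor.HeG
import Cfsg.Agent.Spor.Prim
import Cfsg.Agent.Spor.He2058.Main

set_option autoImplicit false
set_option maxRecDepth 100000

namespace Cfsg.Agent.Spor.He2058

open Cfsg.Spor Cfsg.Spor.He

theorem hom : ∃ φ : He →* Equiv.Perm ℕ, ∀ j < 7, φ (HeG.f j) = fP j := HeG.hom cert.pres

noncomputable def φ : He →* Equiv.Perm ℕ := hom.choose

theorem hφ : ∀ j < 7, φ (HeG.f j) = fP j := hom.choose_spec

abbrev H : Subgroup He := wsub 7 HeG.f BW

theorem act : CosetAct H φ 2058 := cert.act _ _ HeG.pres φ hφ HeG.top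

theorem Heq : (Subgroup.closure ({a, c, d, e, f, (a * b) ^ 2, (b * c * d * e) ^ 7} : Set (FreeGroup Gen))).map (PresentedGroup.mk HeG.rels) = H :=
  HeG.coded.map_closure (ws := [a, c, d, e, f, (a * b) ^ 2, (b * c * d * e) ^ 7]) (by simp) (by decide +kernel) (by decide +kernel)

theorem map_H : H.map φ = wsub 7 fP BW := wsub_map hφ BW

theorem range_φ : φ.range = gsub 7 fP := range_eq_gsub hφ HeG.top

end Cfsg.Agent.Spor.He2058
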